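import Groth.Agent.H4DR.Dualizing.FiniteMap
import Groth.Agent.H4DR.RHom.Single
import Groth.Agent.H4DR.RHom.Proj

/-!
# Restricting `Hom(A, -)` to a resolution of `A`
-/

set_option autoImplicit false
set_option linter.style.haveILetI false
set_option backward.isDefEq.respectTransparency false

universe u

open CategoryTheory CategoryTheory.Limits CochainComplex CochainComplex.HomComplex
open Groth.Agent.H4DR.RHom (sgl0 evalSingle homCxPre)
open Groth.Agent.H4DR.DComplete (coind homF)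
open Groth.Agent.H26Dual2 (reF coF coCx coAdj reCx)
open Groth.Agent.H4DR.Dualizing (coeCo)

attribute [local instance] HasDerivedCategory.standard

namespace Groth.Agent.LeadBrown.TrivBC

variable {R A : Type u} [CommRing R] [CommRing A] (φ : R →+* A)

/-- `A` as an `R`-module. -/
noncomputable abbrev modA : ModuleCat.{u} R := (reF φ).obj (ModuleCat.of A A)

/-- `Hom_R(A, X)`, restricted. -/
noncomputable def resCoN (X : ModuleCat.{u} R) : (reF φ).obj ((coF φ).obj X) ≃ₗ[R] (modA φ →ₗ[R] X) :=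
  { toFun := fun f => coeCo X f
    invFun := fun g => show (coF φ).obj X from (ModuleCat.CoextendScalars.equiv φ X).symm g
    left_inv := fun _ => rfl
    right_inv := fun _ => rfl
    map_add' := fun _ _ => rfl
    map_smul' := fun a f => LinearMap.ext fun b => by
      show coeCo X f ((show A from b) * φ a : A) = a • coeCo X f b
      exact (congrArg (coeCo X f) (mul_comm (show A from b) (φ a))).trans (map_smul (coeCo X f) a b) }

/-- `Hom_R(A, Y)` on complexes, restricted. -/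
noncomputable def resCoNCx (Y : DRing.Cx R) : (reCx φ).obj ((coCx φ).obj Y) ≅ coind (modA φ) Y :=
  HomologicalComplex.Hom.isoOfComponents (fun i => (resCoN φ (Y.X i)).toModuleIso) (fun _ _ _ => rfl)

variable {E : DRing.Cx R} (π : E ⟶ sgl0 (modA φ))

/-- `E ⟶ A` in degree zero. -/
noncomputable abbrev π₀ : E.X 0 ⟶ modA φ :=
  π.f 0 ≫ (HomologicalComplex.singleObjXSelf (ComplexShape.up ℤ) 0 (modA φ)).hom

/-- `Hom(A, Y) ⟶ Hom(E, Y)`. -/
noncomputable def theta (Y : DRing.Cx R) : (reCx φ).obj ((coCx φ).obj Y) ⟶ (DRing.homCxFunctor E).obj Y :=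
  (resCoNCx φ Y).hom ≫ inv (evalSingle (modA φ) Y) ≫ homCxPre π Y

theorem theta_v₀ (Y : DRing.Cx R) (n : ℤ) (f : ((reCx φ).obj ((coCx φ).obj Y)).X n) :
    (show Cochain E Y n from ((theta φ π Y).f n).hom f).v 0 n (zero_add n) =
      π₀ φ π ≫ ModuleCat.ofHom (X := modA φ) (Y := Y.X n) (coeCo (Y.X n) f) := by
  let g : modA φ →ₗ[R] Y.X n := coeCo (Y.X n) f
  let z : Cochain (sgl0 (modA φ)) Y n := ((inv (evalSingle (modA φ) Y)).f n).hom g
  have hz : ((evalSingle (modA φ) Y).f n).hom z = g :=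
    congr($(congrArg (fun k => HomologicalComplex.Hom.f k n) (IsIso.inv_hom_id (evalSingle (modA φ) Y))).hom g)
  have hz' : (HomologicalComplex.singleObjXSelf (ComplexShape.up ℤ) 0 (modA φ)).inv ≫ z.v 0 n (zero_add n) =
      ModuleCat.ofHom (X := modA φ) (Y := Y.X n) g := ModuleCat.hom_ext hz
  show ((Cochain.ofHom π).comp z (zero_add n)).v 0 n (zero_add n) = _
  rw [Cochain.zero_cochain_comp_v, Cochain.ofHom_v, π₀, Category.assoc, ← hz', Iso.hom_inv_id_assoc]

theorem theta_v_ne (Y : DRing.Cx R) (n : ℤ) (f : ((reCx φ).obj ((coCx φ).obj Y)).X n) (p q : ℤ)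
    (h : p + n = q) (hp : p ≠ 0) :
    (show Cochain E Y n from ((theta φ π Y).f n).hom f).v p q h = 0 := by
  let z : Cochain (sgl0 (modA φ)) Y n :=
    ((inv (evalSingle (modA φ) Y)).f n).hom (coeCo (Y.X n) f)
  show ((Cochain.ofHom π).comp z (zero_add n)).v p q h = 0
  rw [Cochain.zero_cochain_comp_v, Cochain.ofHom_v]
  exact ((HomologicalComplex.isZero_single_obj_X (ComplexShape.up ℤ) 0 (modA φ) p hp).eq_of_tgt
    (π.f p) 0).symm ▸ zero_comp

/-- `x ↦ (e ↦ t (π e • x))`. -/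
noncomputable def xi {P : DRing.Cx A} {Y : DRing.Cx R} (t : (reCx φ).obj P ⟶ Y) :
    (reCx φ).obj P ⟶ (DRing.homCxFunctor E).obj Y :=
  (reCx φ).map ((coAdj φ).homEquiv P Y t) ≫ theta φ π Y

theorem xi_v_ne {P : DRing.Cx A} {Y : DRing.Cx R} (t : (reCx φ).obj P ⟶ Y) (n : ℤ)
    (x : ((reCx φ).obj P).X n) (p q : ℤ) (h : p + n = q) (hp : p ≠ 0) :
    (show Cochain E Y n from ((xi φ π t).f n).hom x).v p q h = 0 :=
  theta_v_ne φ π Y n _ p q h hp

theorem xi_v₀ {P : DRing.Cx A} {Y : DRing.Cx R} (t : (reCx φ).obj P ⟶ Y) (n : ℤ)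
    (x : P.X n) (e : E.X 0) :
    ((show Cochain E Y n from ((xi φ π t).f n).hom x).v 0 n (zero_add n)).hom e =
      (t.f n).hom ((show A from (π₀ φ π).hom e) • x) :=
  (congr($(theta_v₀ φ π Y n _).hom e)).trans rfl

theorem xi_comp {P : DRing.Cx A} {Y Y' : DRing.Cx R} (t : (reCx φ).obj P ⟶ Y) (g : Y ⟶ Y') :
    xi φ π (t ≫ g) = xi φ π t ≫ (DRing.homCxFunctor E).map g := by
  refine HomologicalComplex.hom_ext _ _ fun n => ModuleCat.hom_ext (LinearMap.ext fun x => ?_)
  refine Cochain.ext _ _ fun p q h => ?_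
  show _ = ((show Cochain E Y n from ((xi φ π t).f n).hom x).comp (Cochain.ofHom g) (add_zero n)).v p q h
  rw [Cochain.comp_zero_cochain_v, Cochain.ofHom_v]
  by_cases hp : p = 0
  · subst hp
    obtain rfl : q = n := by omega
    refine ModuleCat.hom_ext (LinearMap.ext fun e => ?_)
    exact (xi_v₀ φ π (t ≫ g) _ x e).trans (congrArg (g.f _).hom (xi_v₀ φ π t _ x e)).symm
  · exact (xi_v_ne φ π (t ≫ g) n x p q h hp).trans
      ((congrArg (· ≫ g.f q) (xi_v_ne φ π t n x p q h hp)).trans zero_comp).symm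

section QuasiIso

variable [QuasiIso π]

theorem quasiIso_theta (Y : DRing.Cx R) [CochainComplex.IsKInjective Y] : QuasiIso (theta φ π Y) := by
  haveI := H25DTen.isIso_Q_map π inferInstance
  haveI : QuasiIso (homCxPre π Y) := H4DR.RHom.quasiIso_homCxPre π Y fun n =>
    ⟨fun x y h => (cancel_epi (DerivedCategory.Q.map π)).1 h,
      fun y => ⟨inv (DerivedCategory.Q.map π) ≫ y, IsIso.hom_inv_id_assoc _ _⟩⟩
  unfold theta
  infer_instance

theorem quasiIso_xi_iff {P : DRing.Cx A} {Y : DRing.Cx R} [CochainComplex.IsKInjective Y]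
    (t : (reCx φ).obj P ⟶ Y) : QuasiIso (xi φ π t) ↔ QuasiIso ((coAdj φ).homEquiv P Y t) := by
  haveI := quasiIso_theta φ π Y
  rw [xi, quasiIso_iff_comp_right]
  exact HomologicalComplex.quasiIso_map_iff_of_preservesHomology _ (ModuleCat.restrictScalars.{u} φ)

end QuasiIso

end Groth.Agent.LeadBrown.TrivBC
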