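import Groth.Agent.LeadBrown.TrivBC.Single
import Groth.Agent.H25DTen.RelRep
import Groth.Agent.H4DR.TorAmp.Perfect

/-!
# Base change for trivial duality
-/

set_option autoImplicit false
set_option linter.style.haveILetI false
set_option backward.isDefEq.respectTransparency false

universe u

open CategoryTheory CategoryTheory.Limits MonoidalCategory Opposite
open Groth.Agent.H4DR.RHom (sgl0)

attribute [local instance] HasDerivedCategory.standard

namespace Groth.Agent.LeadBrown.TrivBC

section LeftAdjoint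

variable {R A : Type u} [CommRing R] [CommRing A] {φ : R →+* A} {Rφ : Dual.D R ⥤ Dual.D A}
  (adj : DRing.restrictD φ ⊣ Rφ)

include adj in
/-- `RHom(A, -)` preserves all colimits when `A` is perfect. -/
theorem isLeftAdjoint_of_isPerfect
    (hA : DRing.IsPerfect R ((DRing.restrictD φ).obj (DTen.unit A))) : Rφ.IsLeftAdjoint := by
  haveI : DTen.HasLTen R := H25DTen.hasLTen
  haveI : DTen.HasLTen A := H25DTen.hasLTen
  haveI : DTen.HasLBase φ := H25DTen.hasLBase φ
  haveI : DTen.HasResTen φ := H25DTen.hasResTen φ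
  haveI : DTen.ResLegIso φ := H25DTen.resLegIso φ
  haveI : DTen.HasLTen₃ R := H25DTen.hasLTen₃
  haveI : DTen.HasLTen₃ A := H25DTen.hasLTen₃
  haveI : DTen.IsSymMonoidal R := H25DTen.isSymMonoidal
  haveI : DTen.IsSymMonoidal A := H25DTen.isSymMonoidal
  haveI : DTen.HasRHom R := H25DTen.hasRHom
  haveI : DTen.HasRHom A := H25DTen.hasRHom
  haveI : DTen.HasRHomRel φ := ⟨adj.isLeftAdjoint⟩
  haveI : ∀ K, IsIso ((H25DTen.relNat φ).app K) := H25DTen.isIso_relNat φ hA
  haveI : IsIso (H25DTen.relNat φ) := NatIso.isIso_of_isIso_app _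
  exact (((DTen.baseAdj φ).comp (H25DTen.leftAdj (H25DTen.relDual φ))).ofNatIsoLeft
    (asIso (H25DTen.relNat φ) ≪≫ (DTen.relAdj φ).rightAdjointUniq adj)).isLeftAdjoint

end LeftAdjoint

variable {R A R' A' : Type u} [CommRing R] [CommRing A] [CommRing R'] [CommRing A']
  [Algebra R A] [Algebra R R'] [Algebra A A'] [Algebra R' A'] [Algebra R A'] [IsScalarTower R A A']
  [IsScalarTower R R' A'] [Algebra.IsPushout R A R' A']
  (h : (algebraMap A A').comp (algebraMap R A) = (algebraMap R' A').comp (algebraMap R R'))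
  [DRing.HasLBaseChange (algebraMap R R')] [DRing.HasLBaseChange (algebraMap A A')]
  (adjρ : DRing.LBaseChange (algebraMap R R') ⊣ DRing.restrictD (algebraMap R R'))
  (adjα : DRing.LBaseChange (algebraMap A A') ⊣ DRing.restrictD (algebraMap A A'))
  {Rφ : Dual.D R ⥤ Dual.D A} (adj : DRing.restrictD (algebraMap R A) ⊣ Rφ)
  {Rφ' : Dual.D R' ⥤ Dual.D A'} (adj' : DRing.restrictD (algebraMap R' A') ⊣ Rφ')

include h in
/-- The base change map as a natural transformation. -/
noncomputable def bcNat (hc : ∀ K, IsIso (TrivBC.cmp adjρ adjα h (Rφ.obj K))) :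
    Rφ ⋙ DRing.LBaseChange (algebraMap A A') ⟶ DRing.LBaseChange (algebraMap R R') ⋙ Rφ' where
  app K := TrivBC.bcMap adjρ adjα h adj adj' K (hc K)
  naturality K K' f := by
    haveI := hc K
    haveI := hc K'
    dsimp only [Functor.comp_map, TrivBC.bcMap]
    refine (adj'.homEquiv_naturality_left _ _).symm.trans
      (Eq.trans (congrArg _ ?_) (adj'.homEquiv_naturality_right _ _))
    rw [Category.assoc, IsIso.eq_inv_comp, ← reassoc_of% (cmp_naturality h adjρ adjα (Rφ.map f)),
      IsIso.hom_inv_id_assoc, ← Functor.map_comp, ← Functor.map_comp]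
    exact congrArg _ (adj.counit.naturality f)

/-- The base change map of trivial duality is an isomorphism. -/
theorem isIso_bcMap (hperf : DRing.IsPerfectModule R A)
    (htor : ∀ p : ℕ, 0 < p → Subsingleton (DRing.Tor R p A R')) (K : Dual.D R)
    (hc : IsIso (TrivBC.cmp adjρ adjα h (Rφ.obj K))) :
    IsIso (TrivBC.bcMap adjρ adjα h adj adj' K hc) := by
  let φ := algebraMap R A
  let ρ := algebraMap R R'
  let φ' := algebraMap R' A'
  obtain ⟨E, a, b, hEv, hEF, ⟨eE⟩⟩ := hperf
  let eA : ModuleCat.of R A ≅ modA φ := LinearEquiv.toModuleIso (X₁ := ModuleCat.of R A) (X₂ := modA φ)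
    { toFun := fun x => x, invFun := fun x => x, map_add' := fun _ _ => rfl,
      map_smul' := fun r x => Algebra.smul_def r x, left_inv := fun _ => rfl, right_inv := fun _ => rfl }
  let e₁ : DRing.toD E ≅ DRing.toD (sgl0 (modA φ)) := eE ≪≫ H4DR.PCoh.inDIso (ModuleCat.of R A) ≪≫
    DerivedCategory.Q.mapIso ((CochainComplex.singleFunctor (ModuleCat.{u} R) 0).mapIso eA)
  have hEp : H4DR.TorAmp.IsProjRep E b := ⟨fun k hk => hEv k (Or.inr hk), fun k => (hEF k).2⟩
  obtain ⟨π, hπ, -⟩ := H4DR.TorAmp.exists_qis hEp e₁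
  haveI := hπ
  haveI := H25DTen.isIso_Q_map π inferInstance
  have hA : DRing.IsPerfect R ((DRing.restrictD φ).obj (DTen.unit A)) :=
    ⟨E, a, b, hEv, hEF, ⟨asIso (DerivedCategory.Q.map π) ≪≫
      DerivedCategory.Q.mapIso ((HomologicalComplex.singleMapHomologicalComplex
        (ModuleCat.restrictScalars.{u} φ) (ComplexShape.up ℤ) 0).app (ModuleCat.of A A)).symm ≪≫
      ((DTen.resFactors φ).app _).symm⟩⟩
  let π' := piBC (R' := R') (A' := A') π
  haveI : QuasiIso π' := quasiIso_piBC π htor (H4DR.TorAmp.isKFlat_of_flat hEp.above hEp.flat)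
  haveI := H25DTen.isIso_Q_map π' inferInstance
  have hA' : DRing.IsPerfect R' ((DRing.restrictD φ').obj (DTen.unit A')) :=
    ⟨(DTen.extCx ρ).obj E, a, b,
      fun k hk => (ModuleCat.extendScalars.{u, u, u} ρ).map_isZero (hEv k hk),
      fun k => by
        haveI := (hEF k).1
        haveI := (hEF k).2
        exact ⟨Module.Finite.equiv (H26Tor.extendEquiv (A' := R') (E.X k)),
          Module.Projective.of_equiv (H26Tor.extendEquiv (A' := R') (E.X k))⟩,
      ⟨asIso (DerivedCategory.Q.map π') ≪≫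
        DerivedCategory.Q.mapIso ((HomologicalComplex.singleMapHomologicalComplex
          (ModuleCat.restrictScalars.{u} φ') (ComplexShape.up ℤ) 0).app (ModuleCat.of A' A')).symm ≪≫
        ((DTen.resFactors φ').app _).symm⟩⟩
  have hc' : ∀ K, IsIso (TrivBC.cmp adjρ adjα h (Rφ.obj K)) := fun K =>
    H4DR.BC.isIso_cmp h adjρ adjα htor _
  haveI := isLeftAdjoint_of_isPerfect adj hA
  haveI := isLeftAdjoint_of_isPerfect adj' hA'
  let adjG := (Adjunction.ofIsLeftAdjoint Rφ).comp adjα
  let adjH := adjρ.comp (Adjunction.ofIsLeftAdjoint Rφ')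
  let η := bcNat h adjρ adjα adj adj' hc'
  show IsIso (η.app K)
  refine H25DTen.isIso_of_bijective_S _ fun k => ?_
  refine H25DTen.bijective_all adjG adjH (H25DTen.finiteSupport_S k) (H25DTen.finiteSupport_S k)
    (Functor.whiskerRight η (preadditiveCoyoneda.obj (op (H25DTen.S A' k)))) (fun j => ?_) K
  haveI : IsIso (η.app (H25DTen.S R j)) :=
    isIso_bcMap_single h adjρ adjα adj adj' htor hEv hEF π (H25DTen.unitCx R j) (-j)
      (fun q hq => (HomologicalComplex.isZero_single_obj_X (ComplexShape.up ℤ) 0 _ (q + j) (by omega)))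
      (((HomologicalComplex.XIsoOfEq (𝟙_ (DRing.Cx R)) (show -j + j = 0 by omega)) ≪≫
        HomologicalComplex.singleObjXSelf (ComplexShape.up ℤ) 0 (ModuleCat.of R R)).toLinearEquiv) _
  exact (Iso.homToEquiv (Z := H25DTen.S A' k) (asIso (η.app (H25DTen.S R j)))).bijective

end Groth.Agent.LeadBrown.TrivBC
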