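import Groth.Agent.H4DR.RHom.HomKFlat
import Groth.Agent.H25DTen.Base
import Groth.Agent.H26Tor.BaseChange
import Mathlib.RingTheory.TensorProduct.IsBaseChangeHom
import Mathlib.Algebra.Module.Projective

/-!
# Hom complexes and extension of scalars
-/

set_option autoImplicit false
set_option linter.style.haveILetI false
set_option backward.isDefEq.respectTransparency false

universe u

open CategoryTheory CategoryTheory.Limits CochainComplex CochainComplex.HomComplex
open scoped TensorProduct

attribute [local instance] HasDerivedCategory.standard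

namespace Groth.Agent.LeadBrown.TrivBC

section Bijective

variable {R S M N P : Type u} [CommRing R] [CommRing S] [Algebra R S]
  [AddCommGroup M] [Module R M] [AddCommGroup N] [Module R N]
  [AddCommGroup P] [Module R P] [Module S P] [IsScalarTower R S P]

/-- `S ⊗ Hom(M, N) ≅ Hom(M, S ⊗ N)` for `M` finite projective. -/
theorem bijective_homBaseChange [Module.Finite R M] [Module.Projective R M] {ε : N →ₗ[R] P}
    (ibc : IsBaseChange S ε) :
    Function.Bijective (IsBaseChange.linearMapRightBaseChangeHom S M ε) := by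
  obtain ⟨n, p, i, -, -, hpi⟩ := Module.Finite.exists_comp_eq_id_of_projective R M
  let cF := IsBaseChange.linearMapRightBaseChangeHom S (Fin n → R) ε
  let cM := IsBaseChange.linearMapRightBaseChangeHom S M ε
  have hF : Function.Bijective cF := (IsBaseChange.linearMapRightBaseChangeEquiv (Fin n → R) ibc).bijective
  let pN := LinearMap.lTensor S (LinearMap.lcomp R N p)
  let iN := LinearMap.lTensor S (LinearMap.lcomp R N i)
  have hp : ∀ z, cF (pN z) = cM z ∘ₗ p := fun z => by
    induction z using TensorProduct.induction_on with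
    | zero => simp [cF, cM, pN]
    | tmul s f => rfl
    | add x y hx hy => simp [map_add, hx, hy, LinearMap.add_comp]
  have hi : ∀ z, cM (iN z) = cF z ∘ₗ i := fun z => by
    induction z using TensorProduct.induction_on with
    | zero => simp [cF, cM, iN]
    | tmul s f => rfl
    | add x y hx hy => simp [map_add, hx, hy, LinearMap.add_comp]
  have hip : ∀ z, iN (pN z) = z := fun z => by
    induction z using TensorProduct.induction_on with
    | zero => simp [iN, pN]
    | tmul s f =>
      show s ⊗ₜ[R] ((f ∘ₗ p) ∘ₗ i) = s ⊗ₜ[R] f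
      rw [LinearMap.comp_assoc, hpi, LinearMap.comp_id]
    | add x y hx hy => rw [map_add, map_add, hx, hy]
  refine ⟨fun x y h => ?_, fun g => ?_⟩
  · rw [← hip x, ← hip y]
    refine congrArg iN (hF.1 ?_)
    rw [hp, hp]
    exact congrArg (· ∘ₗ p) h
  · obtain ⟨z, hz⟩ := hF.2 (g ∘ₗ p)
    refine ⟨iN z, ?_⟩
    rw [show cM (iN z) = cF z ∘ₗ i from hi z, hz, LinearMap.comp_assoc, hpi, LinearMap.comp_id]

end Bijective

variable {R R' : Type u} [CommRing R] [CommRing R'] (ρ : R →+* R')

/-- The adjunction on modules. -/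
noncomputable abbrev adjM : ModuleCat.extendScalars.{u, u, u} ρ ⊣ ModuleCat.restrictScalars.{u} ρ :=
  ModuleCat.extendRestrictScalarsAdj.{u, u, u} ρ

lemma adjM_smul {X : ModuleCat.{u} R} {Y : ModuleCat.{u} R'} (a : R)
    (f : (ModuleCat.extendScalars.{u, u, u} ρ).obj X ⟶ Y) :
    (adjM ρ).homEquiv X Y (ρ a • f) = a • (adjM ρ).homEquiv X Y f := by
  rw [Adjunction.homEquiv_unit, Adjunction.homEquiv_unit]
  exact ModuleCat.hom_ext (LinearMap.ext fun _ => rfl)

lemma adjM_add {X : ModuleCat.{u} R} {Y : ModuleCat.{u} R'}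
    (f g : (ModuleCat.extendScalars.{u, u, u} ρ).obj X ⟶ Y) :
    (adjM ρ).homEquiv X Y (f + g) = (adjM ρ).homEquiv X Y f + (adjM ρ).homEquiv X Y g := by
  rw [Adjunction.homEquiv_unit, Adjunction.homEquiv_unit, Adjunction.homEquiv_unit, Functor.map_add,
    Preadditive.comp_add]

lemma adjM_units_smul {X : ModuleCat.{u} R} {Y : ModuleCat.{u} R'} (a : ℤˣ)
    (f : (ModuleCat.extendScalars.{u, u, u} ρ).obj X ⟶ Y) :
    (adjM ρ).homEquiv X Y (a • f) = a • (adjM ρ).homEquiv X Y f := by
  rw [Adjunction.homEquiv_unit, Adjunction.homEquiv_unit, Units.smul_def, Units.smul_def, Functor.map_zsmul,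
    Preadditive.comp_zsmul]

section

variable (E : DRing.Cx R) (J : DRing.Cx R')

/-- Cochains out of an extension of scalars. -/
noncomputable def resHomEquiv (n : ℤ) :
    Cochain ((DTen.extCx ρ).obj E) J n ≃+ Cochain E ((DTen.resCx ρ).obj J) n where
  toFun z := Cochain.mk fun p q h => (adjM ρ).homEquiv _ _ (z.v p q h)
  invFun z := Cochain.mk fun p q h => ((adjM ρ).homEquiv _ _).symm (z.v p q h)
  left_inv z := by refine Cochain.ext _ _ fun p q h => ?_; exact ((adjM ρ).homEquiv _ _).symm_apply_apply _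
  right_inv z := by refine Cochain.ext _ _ fun p q h => ?_; exact ((adjM ρ).homEquiv _ _).apply_symm_apply _
  map_add' z z' := by refine Cochain.ext _ _ fun p q h => ?_; exact adjM_add ρ _ _

lemma resHomEquiv_v (n : ℤ) (z : Cochain ((DTen.extCx ρ).obj E) J n) (p q : ℤ) (h : p + n = q) :
    (resHomEquiv ρ E J n z).v p q h = (adjM ρ).homEquiv _ _ (z.v p q h) := rfl

/-- Restriction of a Hom complex out of an extension of scalars. -/
noncomputable def resHom :
    (DTen.resCx ρ).obj ((DRing.homCxFunctor ((DTen.extCx ρ).obj E)).obj J) ≅ (DRing.homCxFunctor E).obj ((DTen.resCx ρ).obj J) :=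
  HomologicalComplex.Hom.isoOfComponents
    (fun n => LinearEquiv.toModuleIso
      (X₁ := (ModuleCat.restrictScalars.{u} ρ).obj (ModuleCat.of R' (Cochain ((DTen.extCx ρ).obj E) J n)))
      (X₂ := ModuleCat.of R (Cochain E ((DTen.resCx ρ).obj J) n))
      { toFun := fun z => resHomEquiv ρ E J n z
        invFun := fun z => (resHomEquiv ρ E J n).symm z
        left_inv := fun z => (resHomEquiv ρ E J n).symm_apply_apply z
        right_inv := fun z => (resHomEquiv ρ E J n).apply_symm_apply z
        map_add' := fun z z' => map_add (resHomEquiv ρ E J n) z z'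
        map_smul' := fun a (z : Cochain ((DTen.extCx ρ).obj E) J n) => by
          show resHomEquiv ρ E J n (ρ a • z) = a • resHomEquiv ρ E J n z
          refine Cochain.ext _ _ fun p q h => ?_
          rw [Cochain.smul_v, resHomEquiv_v, resHomEquiv_v, Cochain.smul_v, adjM_smul] })
    fun n m hnm => ModuleCat.hom_ext (LinearMap.ext fun (z : Cochain ((DTen.extCx ρ).obj E) J n) => by
      obtain rfl : n + 1 = m := hnm
      show δ n (n + 1) (resHomEquiv ρ E J n z) = resHomEquiv ρ E J (n + 1) (δ n (n + 1) z)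
      refine Cochain.ext _ _ fun p q h => ?_
      rw [resHomEquiv_v, δ_v n (n + 1) rfl _ p q h (q - 1) (p + 1) rfl rfl,
        δ_v n (n + 1) rfl _ p q h (q - 1) (p + 1) rfl rfl, adjM_add, adjM_units_smul]
      congr 1)

lemma resHom_hom_apply (n : ℤ) (z : Cochain ((DTen.extCx ρ).obj E) J n) :
    ((resHom ρ E J).hom.f n).hom z = resHomEquiv ρ E J n z := rfl

lemma resHom_naturality {J J' : DRing.Cx R'} (f : J ⟶ J') :
    (DTen.resCx ρ).map ((DRing.homCxFunctor ((DTen.extCx ρ).obj E)).map f) ≫ (resHom ρ E J').hom =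
      (resHom ρ E J).hom ≫ (DRing.homCxFunctor E).map ((DTen.resCx ρ).map f) := by
  refine HomologicalComplex.hom_ext _ _ fun n =>
    ModuleCat.hom_ext (LinearMap.ext fun (z : Cochain ((DTen.extCx ρ).obj E) J n) => ?_)
  show resHomEquiv ρ E J' n (z.comp (Cochain.ofHom f) (add_zero n)) =
    (resHomEquiv ρ E J n z).comp (Cochain.ofHom ((DTen.resCx ρ).map f)) (add_zero n)
  refine Cochain.ext _ _ fun p q h => ?_
  rw [resHomEquiv_v, Cochain.comp_zero_cochain_v, Cochain.comp_zero_cochain_v, Cochain.ofHom_v,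
    Cochain.ofHom_v, resHomEquiv_v]
  exact (adjM ρ).homEquiv_naturality_right _ _

end

/-- `R' ⊗ Hom(E, L) ⟶ Hom(R' ⊗ E, R' ⊗ L)`. -/
noncomputable def canHom (E L : DRing.Cx R) :
    (DTen.extCx ρ).obj ((DRing.homCxFunctor E).obj L) ⟶ (DRing.homCxFunctor ((DTen.extCx ρ).obj E)).obj ((DTen.extCx ρ).obj L) :=
  ((H25DTen.adjCx ρ).homEquiv _ _).symm
    ((DRing.homCxFunctor E).map ((DTen.unitCx ρ).app L) ≫ (resHom ρ E ((DTen.extCx ρ).obj L)).inv)

lemma homEquiv_canHom_comp (E L : DRing.Cx R) {J : DRing.Cx R'} (f : (DTen.extCx ρ).obj L ⟶ J) :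
    (H25DTen.adjCx ρ).homEquiv _ _ (canHom ρ E L ≫ (DRing.homCxFunctor ((DTen.extCx ρ).obj E)).map f) =
      (DRing.homCxFunctor E).map ((DTen.unitCx ρ).app L ≫ (DTen.resCx ρ).map f) ≫ (resHom ρ E J).inv := by
  rw [Adjunction.homEquiv_naturality_right, canHom, Equiv.apply_symm_apply, Functor.map_comp,
    Category.assoc, Category.assoc]
  refine congrArg (_ ≫ ·) ((Iso.inv_comp_eq _).2 ?_)
  rw [← Category.assoc, Iso.eq_comp_inv]
  exact resHom_naturality ρ E f

end Groth.Agent.LeadBrown.TrivBC

namespace Groth.Agent.LeadBrown.TrivBC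

variable {R R' : Type u} [CommRing R] [CommRing R'] [Algebra R R']

lemma extendEquiv_one_tmul (M : ModuleCat.{u} R) (m : M) :
    H26Tor.extendEquiv (A' := R') M ((1 : R') ⊗ₜ[R] m) =
      ((adjM (algebraMap R R')).unit.app M).hom m := rfl

/-- `R'`-linear maps out of an extension of scalars. -/
noncomputable def homExtEquiv (M : ModuleCat.{u} R) (Y : ModuleCat.{u} R') :
    letI : Module R Y := Module.compHom Y (algebraMap R R')
    ((ModuleCat.extendScalars.{u, u, u} (algebraMap R R')).obj M ⟶ Y) → (M →ₗ[R] Y) :=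
  fun g => ((adjM (algebraMap R R')).homEquiv M Y g).hom

/-- `R' ⊗ Hom(E, L) ≅ Hom(R' ⊗ E, R' ⊗ L)` for `E` of finite projectives and `L` in a single degree. -/
theorem isIso_canHom (E L : DRing.Cx R) (hE : DRing.TermwiseFiniteProjective E) (q₀ : ℤ)
    (hL : ∀ q, q ≠ q₀ → IsZero (L.X q)) : IsIso (canHom (algebraMap R R') E L) := by
  let ρ := algebraMap R R'
  let EX := ModuleCat.extendScalars.{u, u, u} ρ
  haveI : ∀ n, IsIso ((canHom ρ E L).f n) := fun n => by
    obtain ⟨p, hp⟩ : ∃ p, p + n = q₀ := ⟨q₀ - n, sub_add_cancel q₀ n⟩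
    haveI := (hE p).1
    haveI := (hE p).2
    let P : ModuleCat.{u} R' := EX.obj (L.X q₀)
    letI : Module R P := Module.compHom P ρ
    haveI : IsScalarTower R R' P := IsScalarTower.of_algebraMap_smul fun _ _ => rfl
    let η : L.X q₀ →ₗ[R] P := ((adjM ρ).unit.app (L.X q₀)).hom
    have ibc : IsBaseChange R' η :=
      IsBaseChange.of_equiv (H26Tor.extendEquiv (A' := R') (L.X q₀)) (extendEquiv_one_tmul (L.X q₀))
    have hzero : ∀ (q : ℤ), q ≠ q₀ → IsZero (((DTen.extCx ρ).obj L).X q) := fun q hq => EX.map_isZero (hL q hq)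
    have hext : ∀ z z' : Cochain ((DTen.extCx ρ).obj E) ((DTen.extCx ρ).obj L) n,
        z.v p q₀ hp = z'.v p q₀ hp → z = z' := fun z z' hz => by
      refine Cochain.ext _ _ fun a b hab => ?_
      by_cases hb : b = q₀
      · subst hb
        obtain rfl : a = p := by omega
        exact congrArg (fun g => g) hz
      · exact (hzero b hb).eq_of_tgt _ _
    let G : Cochain ((DTen.extCx ρ).obj E) ((DTen.extCx ρ).obj L) n → (E.X p →ₗ[R] P) := fun z =>
      homExtEquiv (E.X p) P (z.v p q₀ hp)
    have hG : Function.Bijective G := by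
      refine ⟨fun z z' hz => hext z z' ((adjM ρ).homEquiv _ _ |>.injective (ModuleCat.hom_ext hz)), fun g => ?_⟩
      let g' : EX.obj (E.X p) ⟶ ((DTen.extCx ρ).obj L).X q₀ :=
        ((adjM ρ).homEquiv (E.X p) P).symm (ModuleCat.ofHom (Y := (ModuleCat.restrictScalars.{u} ρ).obj P) g)
      refine ⟨Cochain.single (K := (DTen.extCx ρ).obj E) (L := (DTen.extCx ρ).obj L) g' n, ?_⟩
      show homExtEquiv (E.X p) P ((Cochain.single (K := (DTen.extCx ρ).obj E) (L := (DTen.extCx ρ).obj L) g' n).v p q₀ hp) = g
      rw [Cochain.single_v]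
      exact congrArg ModuleCat.Hom.hom (((adjM ρ).homEquiv (E.X p) P).apply_symm_apply _)
    let e₁ : Cochain E L n ≃ₗ[R] (E.X p →ₗ[R] L.X q₀) :=
      LinearEquiv.ofBijective
        { toFun := fun (z : Cochain E L n) => (z.v p q₀ hp).hom
          map_add' := fun z z' => congrArg ModuleCat.Hom.hom (Cochain.add_v z z' p q₀ hp)
          map_smul' := fun a z => congrArg ModuleCat.Hom.hom (Cochain.smul_v a z p q₀ hp) }
        ⟨fun z z' hz => by
          refine Cochain.ext _ _ fun a b hab => ?_
          by_cases hb : b = q₀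
          · subst hb
            obtain rfl : a = p := by omega
            exact ModuleCat.hom_ext hz
          · exact (hL b hb).eq_of_tgt _ _,
        fun g => ⟨Cochain.single (K := E) (L := L) (ModuleCat.ofHom g) n, by
          show ((Cochain.single (K := E) (L := L) (ModuleCat.ofHom g) n).v p q₀ hp).hom = g
          rw [Cochain.single_v]
          rfl⟩⟩
    let E₁ := H26Tor.extendEquiv (A := R) (A' := R') (ModuleCat.of R (Cochain E L n))
    have key : ∀ z : R' ⊗[R] (Cochain E L n), G (((canHom ρ E L).f n).hom (E₁ z)) =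
        IsBaseChange.linearMapRightBaseChangeHom R' (E.X p) η (e₁.toLinearMap.lTensor R' z) := by
      have hadd : ∀ z z', G (z + z') = G z + G z' := fun z z' => by
        show ((adjM ρ).homEquiv _ _ _).hom = _
        rw [Cochain.add_v, adjM_add]
        rfl
      have hsm : ∀ (r : R') (y : Cochain ((DTen.extCx ρ).obj E) ((DTen.extCx ρ).obj L) n),
          G (r • y) = r • G y := fun r y => LinearMap.ext fun e => rfl
      intro z
      induction z using TensorProduct.induction_on with
      | zero =>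
        rw [map_zero, map_zero, map_zero, map_zero]
        refine add_left_cancel (a := G 0) ?_
        rw [← hadd, add_zero, add_zero]
      | tmul r z =>
        have h1 : ((canHom ρ E L).f n).hom (E₁ (r ⊗ₜ z)) =
            r • (resHomEquiv ρ E ((DTen.extCx ρ).obj L) n).symm
              (z.comp (Cochain.ofHom ((DTen.unitCx ρ).app L)) (add_zero n)) := rfl
        rw [h1, hsm]
        refine congrArg (r • ·) ?_
        show ((adjM ρ).homEquiv _ _ (((adjM ρ).homEquiv _ _).symm
            ((z.comp (Cochain.ofHom ((DTen.unitCx ρ).app L)) (add_zero n)).v p q₀ hp))).hom =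
          η ∘ₗ (z.v p q₀ hp).hom
        rw [Equiv.apply_symm_apply, Cochain.comp_zero_cochain_v, Cochain.ofHom_v]
        rfl
      | add a b ha hb => simp only [map_add, hadd, ha, hb]
    have hb : Function.Bijective (fun z => G (((canHom ρ E L).f n).hom (E₁ z))) := by
      rw [funext key]
      exact (bijective_homBaseChange ibc).comp (LinearEquiv.lTensor R' e₁).bijective
    refine (ConcreteCategory.isIso_iff_bijective _).2 ?_
    exact ((Function.Bijective.of_comp_iff _ E₁.bijective).1
      ((Function.Bijective.of_comp_iff' hG _).1 hb))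
  exact HomologicalComplex.Hom.isIso_of_components _

end Groth.Agent.LeadBrown.TrivBC
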