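import Groth.Agent.LeadBrown.TrivBC.Shriek
import Groth.Agent.H26Dual2.OpenImm
import Groth.Agent.H4DR.PCoh.Modules
import Groth.Agent.H4DR.PCoh.Stage
import Groth.Prelude.Def_DualSh

/-!
# The relative dualizing complex of a flat ring map
-/

set_option autoImplicit false
set_option linter.style.haveILetI false

universe u

open CategoryTheory CategoryTheory.Limits TensorProduct
open Groth.Agent.H26Dual2 (TD tdComp tdId polyBC polyBC_surjective isLeftAdjoint_TD shriekVia_iso_of_finite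
  shiftRightAdjointIso)

attribute [local instance] HasDerivedCategory.standard

namespace Groth.Agent.LeadBrown.TrivBC

/-- Restriction along a ring isomorphism is an equivalence. -/
noncomputable def tdEquiv {A B : Type u} [CommRing A] [CommRing B] (e : A ≃+* B) : Dual.D B ≌ Dual.D A :=
  CategoryTheory.Equivalence.mk (TD e.toRingHom) (TD e.symm.toRingHom)
    ((tdId B).symm ≪≫ eqToIso (congrArg TD (RingHom.ext e.apply_symm_apply : e.toRingHom.comp e.symm.toRingHom = RingHom.id B).symm) ≪≫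
      tdComp e.symm.toRingHom e.toRingHom)
    ((tdComp e.toRingHom e.symm.toRingHom).symm ≪≫ eqToIso (congrArg TD (RingHom.ext e.symm_apply_apply : e.symm.toRingHom.comp e.toRingHom = RingHom.id A)) ≪≫
      tdId A)

/-- `RHom_{A ⊗ A}(A, ω ⊗_A (A ⊗ A)) ≅ A`. -/
theorem nonempty_rhom_diag (R A : Type u) [CommRing R] [CommRing A] [IsNoetherianRing R] [IsNoetherianRing A]
    [Algebra R A] [Module.Flat R A] (n : ℕ) (ψ : MvPolynomial (Fin n) R →ₐ[R] A) (hψ : Function.Surjective ψ)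
    [DRing.HasLBaseChange (algebraMap R (MvPolynomial (Fin n) R))]
    (Rψ : Dual.D (MvPolynomial (Fin n) R) ⥤ Dual.D A) (adj : DRing.restrictD ψ.toRingHom ⊣ Rψ)
    [DRing.HasLBaseChange (Algebra.TensorProduct.includeLeftRingHom : A →+* A ⊗[R] A)]
    (Rμ : Dual.D (A ⊗[R] A) ⥤ Dual.D A)
    (adjμ : DRing.restrictD (Algebra.TensorProduct.lmul' R (S := A)).toRingHom ⊣ Rμ) :
    Nonempty (Rμ.obj ((DRing.LBaseChange (Algebra.TensorProduct.includeLeftRingHom : A →+* A ⊗[R] A)).obj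
      (Dual2.shriekVia n Rψ (Dual.inD R R))) ≅ Dual.inD A A) := by
  let B := A ⊗[R] A
  let inl : A →+* B := Algebra.TensorProduct.includeLeftRingHom
  let inr : A →+* B := (Algebra.TensorProduct.includeRight : A →ₐ[R] B).toRingHom
  let μ : B →+* A := (Algebra.TensorProduct.lmul' R (S := A)).toRingHom
  let c : B ≃+* B := (Algebra.TensorProduct.comm R A A).toRingEquiv
  let ω := Dual2.shriekVia n Rψ (Dual.inD R R)
  haveI := H4DR.TorAmp.hasLBaseChange inr
  haveI := H4DR.TorAmp.hasLBaseChange (algebraMap R A)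
  haveI := H4DR.TorAmp.hasLBaseChange (algebraMap A (MvPolynomial (Fin n) A))
  let χ : MvPolynomial (Fin n) A →ₐ[A] B := polyBC R A n ψ
  haveI := isLeftAdjoint_TD χ.toRingHom
  let adjχ : TD χ.toRingHom ⊣ (TD χ.toRingHom).rightAdjoint := Adjunction.ofIsLeftAdjoint _
  obtain ⟨e₁⟩ := nonempty_shriek_baseChange R A A n ψ hψ Rψ adj n χ (polyBC_surjective R A n ψ hψ) _ adjχ
    (Dual.inD R R)
  -- swap the factors
  obtain ⟨adjl⟩ := Groth.Agent.S12898.result inl
  obtain ⟨adjr⟩ := Groth.Agent.S12898.result inr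
  have hlr : c.toRingHom.comp inr = inl := RingHom.ext fun _ => rfl
  have hμc : μ.comp c.toRingHom = μ := by
    refine RingHom.ext fun z => ?_
    induction z using TensorProduct.induction_on with
    | zero => simp
    | tmul a b =>
      show Algebra.TensorProduct.lmul' R (Algebra.TensorProduct.comm R A A (a ⊗ₜ b)) =
        Algebra.TensorProduct.lmul' R (a ⊗ₜ b)
      rw [Algebra.TensorProduct.comm_tmul, Algebra.TensorProduct.lmul'_apply_tmul,
        Algebra.TensorProduct.lmul'_apply_tmul, mul_comm]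
    | add x y hx hy => rw [map_add, map_add, hx, hy]
  let ec := tdEquiv c
  let adjc : TD c.toRingHom ⊣ ec.inverse := ec.toAdjunction
  let adjl' : DRing.LBaseChange inr ⋙ ec.inverse ⊣ TD inl :=
    (adjr.comp ec.symm.toAdjunction).ofNatIsoRight ((tdComp inr c.toRingHom).symm ≪≫ eqToIso (congrArg TD hlr))
  let iω : (DRing.LBaseChange inl).obj ω ≅ ec.inverse.obj ((DRing.LBaseChange inr).obj ω) :=
    (adjl.leftAdjointUniq adjl').app ω
  let adjμ' : TD μ ⊣ ec.inverse ⋙ Rμ :=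
    (adjμ.comp adjc).ofNatIsoLeft ((tdComp c.toRingHom μ).symm ≪≫ eqToIso (congrArg TD hμc))
  let iμ : ec.inverse ⋙ Rμ ≅ Rμ := adjμ'.rightAdjointUniq adjμ
  -- the shriek of the identity
  let χ' : MvPolynomial (Fin n) A →ₐ[A] A := (Algebra.TensorProduct.lmul'' R (S := A)).comp χ
  have hχ' : χ'.toRingHom = μ.comp χ.toRingHom := RingHom.ext fun _ => rfl
  let adjχ' : TD χ'.toRingHom ⊣ (TD χ.toRingHom).rightAdjoint ⋙ Rμ :=
    (adjμ.comp adjχ).ofNatIsoLeft ((tdComp χ.toRingHom μ).symm ≪≫ eqToIso (congrArg TD hχ'.symm))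
  let adjid : TD (algebraMap A A) ⊣ 𝟭 (Dual.D A) := Adjunction.id.ofNatIsoLeft (tdId A).symm
  obtain ⟨e₂⟩ := shriekVia_iso_of_finite A n χ' _ adjχ' _ adjid (Dual.inD A A)
  -- the base change of `R`
  obtain ⟨adjA⟩ := Groth.Agent.S12898.result (algebraMap R A)
  haveI : DTen.HasLTen R := H25DTen.hasLTen
  haveI : DTen.HasLTen A := H25DTen.hasLTen
  haveI : DTen.HasLBase (algebraMap R A) := H25DTen.hasLBase _
  haveI : DTen.HasResTen (algebraMap R A) := H25DTen.hasResTen _
  haveI : DTen.ResLegIso (algebraMap R A) := H25DTen.resLegIso _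
  let uA : (DRing.LBaseChange (algebraMap R A)).obj (Dual.inD R R) ≅ Dual.inD A A :=
    (DRing.LBaseChange (algebraMap R A)).mapIso (H4DR.PCoh.inDIso (ModuleCat.of R R)) ≪≫
      (adjA.leftAdjointUniq (DTen.baseAdj (algebraMap R A))).app _ ≪≫
      H25DTen.baseUnitIso (algebraMap R A) ≪≫ (H4DR.PCoh.inDIso (ModuleCat.of A A)).symm
  exact ⟨Rμ.mapIso iω ≪≫ iμ.app _ ≪≫ Rμ.mapIso e₁ ≪≫ ((shiftRightAdjointIso adjμ (n : ℤ)).app _).symm ≪≫
    (shiftFunctor (Dual.D A) (n : ℤ)).mapIso (Rμ.mapIso ((TD χ.toRingHom).rightAdjoint.mapIso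
      ((DRing.LBaseChange (algebraMap A (MvPolynomial (Fin n) A))).mapIso uA))) ≪≫ e₂⟩

/-- `ω_{A/R}` is `R`-perfect. -/
theorem isRelPerfect_shriek (R A : Type u) [CommRing R] [CommRing A] [IsNoetherianRing A] [Algebra R A]
    {ω : Dual.D A} {a b : ℤ} (hb : ∀ i : ℤ, (i < a ∨ b < i) → Subsingleton (Dual.HD A ω i))
    (hf : ∀ i : ℤ, Module.Finite A (Dual.HD A ω i))
    (ht : DRing.HasFiniteTorDimCx R ((DRing.restrictD (algebraMap R A)).obj ω)) :
    Dual2.IsRelPerfect R A ω :=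
  ⟨H4DR.PCoh.pc'_of_forall fun m => H4DR.PCoh.pc_of_finite (b + 1 - m).toNat
    (fun i hi => hb i (Or.inr (by omega))) (fun i _ => hf i), ht⟩

end Groth.Agent.LeadBrown.TrivBC
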