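import Groth.Agent.LeadBrown.TrivBC.All
import Groth.Agent.H26Dual2.ShriekBC
import Groth.Agent.H3CAlg.TorRestrict
import Groth.Agent.H8Props.RingRelPCBaseChange
import Groth.Agent.S1820
import Groth.Agent.S12898

/-!
# Base change of the upper shriek of a flat ring map
-/

set_option autoImplicit false
set_option linter.style.haveILetI false

universe u

open CategoryTheory CategoryTheory.Limits TensorProduct
open Groth.Agent.H26Dual2 (TD tdComp polyBC polyBC_surjective polyBC_sq isLeftAdjoint_TD shriekVia_independent)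

attribute [local instance] HasDerivedCategory.standard
attribute [local instance] MvPolynomial.algebraMvPolynomial

namespace Groth.Agent.LeadBrown.TrivBC

/-- A left adjoint of restriction commutes with shifts. -/
noncomputable def leftShift {A B : Type u} [CommRing A] [CommRing B] {f : A →+* B}
    {F : Dual.D A ⥤ Dual.D B} (adj : F ⊣ DRing.restrictD f) (n : ℤ) :
    shiftFunctor (Dual.D A) n ⋙ F ≅ F ⋙ shiftFunctor (Dual.D B) n :=
  ((shiftEquiv' (Dual.D A) n (-n) (add_neg_cancel n)).toAdjunction.comp adj).leftAdjointUniq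
    ((adj.comp (shiftEquiv' (Dual.D B) n (-n) (add_neg_cancel n)).toAdjunction).ofNatIsoRight
      ((TD f).commShiftIso (-n)))

/-- Tor independence of `R[x] → A` and `R[x] → R'[x]` for `A` flat over `R`. -/
theorem subsingleton_tor_poly {R A R' : Type u} [CommRing R] [CommRing A] [CommRing R'] [Algebra R A]
    [Algebra R R'] [Module.Flat R A] (n : ℕ) [Algebra (MvPolynomial (Fin n) R) A]
    [IsScalarTower R (MvPolynomial (Fin n) R) A] (p : ℕ) (hp : 0 < p) :
    Subsingleton (DRing.Tor (MvPolynomial (Fin n) R) p A (MvPolynomial (Fin n) R')) := by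
  let P := MvPolynomial (Fin n) R
  let P' := MvPolynomial (Fin n) R'
  obtain ⟨k, rfl⟩ := Nat.exists_eq_succ_of_ne_zero hp.ne'
  haveI : Subsingleton (DRing.Tor R (k + 1) A R') :=
    ModuleCat.subsingleton_of_isZero (H1CAlg.isZero_Tor_of_flat (ModuleCat.of R A) (ModuleCat.of R R') k)
  obtain ⟨e, -⟩ := H3CAlg.TorRestrict.tor_restrict (A := R) P A (k + 1) R'
  haveI : Subsingleton (DRing.Tor P (k + 1) A (P ⊗[R] R')) := e.toEquiv.subsingleton
  have hb : IsBaseChange P (IsScalarTower.toAlgHom R R' P').toLinearMap :=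
    (inferInstance : Algebra.IsPushout R P R' P').out
  exact (((Tor (ModuleCat.{u} P) (k + 1)).obj (ModuleCat.of P A)).mapIso
    hb.equiv.toModuleIso).toLinearEquiv.symm.injective.subsingleton

/-- Base change of the upper shriek. -/
theorem nonempty_shriek_baseChange (R R' A : Type u) [CommRing R] [CommRing R'] [CommRing A] [IsNoetherianRing R]
    [IsNoetherianRing A] [Algebra R R'] [Algebra R A] [Module.Flat R A] (n : ℕ)
    (ψ : MvPolynomial (Fin n) R →ₐ[R] A) (hψ : Function.Surjective ψ)
    [DRing.HasLBaseChange (algebraMap R (MvPolynomial (Fin n) R))]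
    (Rψ : Dual.D (MvPolynomial (Fin n) R) ⥤ Dual.D A) (adj : DRing.restrictD ψ.toRingHom ⊣ Rψ) (m : ℕ)
    (ψ' : MvPolynomial (Fin m) R' →ₐ[R'] (R' ⊗[R] A)) (hψ' : Function.Surjective ψ')
    [DRing.HasLBaseChange (algebraMap R' (MvPolynomial (Fin m) R'))]
    (Rψ' : Dual.D (MvPolynomial (Fin m) R') ⥤ Dual.D (R' ⊗[R] A)) (adj' : DRing.restrictD ψ'.toRingHom ⊣ Rψ')
    [DRing.HasLBaseChange (Algebra.TensorProduct.includeRight : A →ₐ[R] R' ⊗[R] A).toRingHom]
    [DRing.HasLBaseChange (algebraMap R R')] (K : Dual.D R) :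
    Nonempty ((DRing.LBaseChange (Algebra.TensorProduct.includeRight : A →ₐ[R] R' ⊗[R] A).toRingHom).obj
        (Dual2.shriekVia n Rψ K) ≅ Dual2.shriekVia m Rψ' ((DRing.LBaseChange (algebraMap R R')).obj K)) := by
  let P := MvPolynomial (Fin n) R
  let P' := MvPolynomial (Fin n) R'
  let B := R' ⊗[R] A
  letI := Algebra.TensorProduct.rightAlgebra (R := R) (A := R') (B := A)
  letI : Algebra P A := ψ.toRingHom.toAlgebra
  haveI : IsScalarTower R P A := IsScalarTower.of_algebraMap_eq fun r => (ψ.commutes r).symm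
  let χ : P' →ₐ[R'] B := polyBC R R' n ψ
  letI : Algebra P' B := χ.toRingHom.toAlgebra
  letI : Algebra P B := ((algebraMap A B).comp (algebraMap P A)).toAlgebra
  haveI : IsScalarTower P A B := IsScalarTower.of_algebraMap_eq fun _ => rfl
  haveI : IsScalarTower R' P' B := IsScalarTower.of_algebraMap_eq fun r => (χ.commutes r).symm
  haveI : IsScalarTower P P' B := IsScalarTower.of_algebraMap_eq' (polyBC_sq R R' n ψ).symm
  haveI : IsScalarTower R A B := IsScalarTower.of_algebraMap_eq fun r =>
    ((Algebra.TensorProduct.includeRight : A →ₐ[R] B).commutes r).symm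
  haveI : IsScalarTower R P B := IsScalarTower.of_algebraMap_eq fun r => by
    rw [IsScalarTower.algebraMap_apply R A B, IsScalarTower.algebraMap_apply R P A]
    rfl
  haveI : IsScalarTower R P' B := IsScalarTower.of_algebraMap_eq fun r => by
    rw [IsScalarTower.algebraMap_apply R R' B, IsScalarTower.algebraMap_apply R' P' B,
      IsScalarTower.algebraMap_apply R R' P']
  haveI : Algebra.IsPushout R A R' B := Algebra.IsPushout.symm inferInstance
  haveI : Algebra.IsPushout P A P' B :=
    (Algebra.IsPushout.comp_iff (R := R) (S := P) (R' := R') (S' := P') (T := A) (T' := B)).1 inferInstance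
  haveI : DRing.HasLBaseChange (algebraMap A B) :=
    ‹DRing.HasLBaseChange (Algebra.TensorProduct.includeRight : A →ₐ[R] R' ⊗[R] A).toRingHom›
  haveI := H4DR.TorAmp.hasLBaseChange (algebraMap P P')
  haveI := H4DR.TorAmp.hasLBaseChange (algebraMap R' P')
  obtain ⟨adjρ⟩ := Groth.Agent.S12898.result (algebraMap P P')
  obtain ⟨adjα⟩ := Groth.Agent.S12898.result (algebraMap A B)
  obtain ⟨adjL⟩ := Groth.Agent.S12898.result (algebraMap R P)
  obtain ⟨adjL'⟩ := Groth.Agent.S12898.result (algebraMap R' P')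
  obtain ⟨adjR⟩ := Groth.Agent.S12898.result (algebraMap R R')
  haveI := isLeftAdjoint_TD (algebraMap P' B)
  let adjχ : TD (algebraMap P' B) ⊣ (TD (algebraMap P' B)).rightAdjoint := Adjunction.ofIsLeftAdjoint _
  have hperf : DRing.IsPerfectModule P A := by
    obtain ⟨E, a, b, h1, h2, ⟨e⟩⟩ := Groth.Agent.S1820.isPerfect_restrict_unit n ψ hψ
    exact ⟨E, a, b, h1, h2, ⟨e ≪≫ H25DTen.restrictUnitIso.symm⟩⟩
  have hsq : (algebraMap A B).comp (algebraMap P A) = (algebraMap P' B).comp (algebraMap P P') :=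
    (IsScalarTower.algebraMap_eq P A B).symm.trans (IsScalarTower.algebraMap_eq P P' B)
  have htor : ∀ p : ℕ, 0 < p → Subsingleton (DRing.Tor P p A P') := fun p hp => subsingleton_tor_poly n p hp
  let Y := (DRing.LBaseChange (algebraMap R P)).obj K
  have hc := H4DR.BC.isIso_cmp hsq adjρ adjα htor (Rψ.obj Y)
  haveI := isIso_bcMap hsq adjρ adjα (Rφ := Rψ) adj (adj' := adjχ) hperf htor Y hc
  have hcomm : (algebraMap P P').comp (algebraMap R P) = (algebraMap R' P').comp (algebraMap R R') := by
    rw [← IsScalarTower.algebraMap_eq, ← IsScalarTower.algebraMap_eq]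
  let adj₁ : DRing.LBaseChange (algebraMap R P) ⋙ DRing.LBaseChange (algebraMap P P') ⊣
      TD ((algebraMap P P').comp (algebraMap R P)) :=
    (adjL.comp adjρ).ofNatIsoRight (tdComp _ _).symm
  let adj₂ : DRing.LBaseChange (algebraMap R R') ⋙ DRing.LBaseChange (algebraMap R' P') ⊣
      TD ((algebraMap P P').comp (algebraMap R P)) :=
    (adjR.comp adjL').ofNatIsoRight ((tdComp _ _).symm ≪≫ eqToIso (congrArg TD hcomm.symm))
  obtain ⟨j⟩ := shriekVia_independent R' n χ (polyBC_surjective R R' n ψ hψ) _ adjχ m ψ' hψ' Rψ' adj'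
    ((DRing.LBaseChange (algebraMap R R')).obj K)
  exact ⟨(leftShift adjα (n : ℤ)).app (Rψ.obj Y) ≪≫
    (shiftFunctor (Dual.D B) (n : ℤ)).mapIso (asIso (TrivBC.bcMap adjρ adjα hsq adj adjχ Y hc) ≪≫
      (TD (algebraMap P' B)).rightAdjoint.mapIso ((adj₁.leftAdjointUniq adj₂).app K)) ≪≫ j⟩

end Groth.Agent.LeadBrown.TrivBC
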