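import Groth.Agent.LeadBrown.TrivBC.HomBC
import Groth.Agent.LeadBrown.TrivBC.Act
import Groth.Agent.H4DR.BC.Cmp
import Groth.Agent.H4DR.RHom.Biduality

/-!
# Base change for trivial duality at a free module in a single degree
-/

set_option autoImplicit false
set_option linter.style.haveILetI false
set_option backward.isDefEq.respectTransparency false

universe u

open CategoryTheory CategoryTheory.Limits CochainComplex CochainComplex.HomComplex
open Groth.Agent.H4DR.RHom (sgl0)
open Groth.Agent.H26Dual2 (TD reF coCx coAdj reCx)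
open Groth.Agent.H4DR (TorAmp.IsProjRep)
open Groth.Agent.H4DR.KFlatMod (bi)
open Groth.Agent.H16Derived

attribute [local instance] HasDerivedCategory.standard

namespace Groth.Agent.LeadBrown.TrivBC

section Rep

variable {R : Type u} [CommRing R]

lemma isProjRep_single {L : DRing.Cx R} {q₀ : ℤ} (hL : ∀ q, q ≠ q₀ → IsZero (L.X q)) (eR : L.X q₀ ≃ₗ[R] R) :
    H4DR.TorAmp.IsProjRep L q₀ :=
  ⟨fun q hq => hL q (ne_of_gt hq), fun q => by
    by_cases h : q = q₀
    · subst h; exact Module.Projective.of_equiv eR.symm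
    · haveI := ModuleCat.subsingleton_of_isZero (hL q h)
      infer_instance⟩

lemma isProjRep_homCx {E L : DRing.Cx R} {a b : ℤ} (hE : DRing.VanishesOutside E a b)
    (hF : DRing.TermwiseFiniteProjective E) {q₀ : ℤ} (hL : ∀ q, q ≠ q₀ → IsZero (L.X q)) (eR : L.X q₀ ≃ₗ[R] R) :
    H4DR.TorAmp.IsProjRep ((DRing.homCxFunctor E).obj L) (q₀ - a) := by
  have e : ∀ n p : ℤ, p + n = q₀ → ∃ f : Cochain E L n →ₗ[R] (E.X p →ₗ[R] R), Function.Bijective f := by
    intro n p hp
    refine ⟨{ toFun := fun z => eR.toLinearMap ∘ₗ (z.v p q₀ hp).hom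
              map_add' := fun z z' => by rw [Cochain.add_v, ModuleCat.hom_add, LinearMap.comp_add]
              map_smul' := fun c z => by rw [Cochain.smul_v, ModuleCat.hom_smul, LinearMap.comp_smul]; rfl },
      fun z z' hz => ?_, fun g => ?_⟩
    · refine Cochain.ext _ _ fun i j hij => ?_
      by_cases hj : j = q₀
      · subst hj
        obtain rfl : i = p := by omega
        refine ModuleCat.hom_ext (LinearMap.ext fun x => eR.injective ?_)
        exact LinearMap.congr_fun hz x
      · exact (hL j hj).eq_of_tgt _ _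
    · refine ⟨Cochain.single (K := E) (L := L) (ModuleCat.ofHom (eR.symm.toLinearMap ∘ₗ g)) n, ?_⟩
      show eR.toLinearMap ∘ₗ _ = g
      rw [Cochain.single_v]
      exact LinearMap.ext fun x => eR.apply_symm_apply (g x)
  refine ⟨fun n hn => ?_, fun n => ?_⟩
  · obtain ⟨f, hf⟩ := e n (q₀ - n) (by omega)
    haveI := ModuleCat.subsingleton_of_isZero (hE (q₀ - n) (Or.inl (by omega)))
    haveI : Subsingleton (E.X (q₀ - n) →ₗ[R] R) := ⟨fun u v => LinearMap.ext fun x => by
      rw [Subsingleton.elim x 0, map_zero, map_zero]⟩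
    haveI : Subsingleton (Cochain E L n) := hf.1.subsingleton
    exact ModuleCat.isZero_of_subsingleton (ModuleCat.of R (Cochain E L n))
  · obtain ⟨f, hf⟩ := e n (q₀ - n) (by omega)
    haveI := (hF (q₀ - n)).1
    haveI := (hF (q₀ - n)).2
    exact Module.Projective.of_equiv (LinearEquiv.ofBijective f hf).symm

end Rep

section RightAdj

variable {R A : Type u} [CommRing R] [CommRing A] {φ : R →+* A} {Rφ : Dual.D R ⥤ Dual.D A}
  (adj : DRing.restrictD φ ⊣ Rφ)

/-- The value of the right adjoint at a K-injective complex. -/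
theorem isIso_homEquiv_epsCo {K : Dual.D R} (I : DRing.Cx R) [CochainComplex.IsKInjective I]
    (e : DRing.toD I ≅ K) :
    IsIso (adj.homEquiv (DRing.toD ((coCx φ).obj I)) K (H4DR.Dualizing.epsCo φ I ≫ e.hom)) := by
  refine (isIso_iff_yoneda_map_bijective _).2 fun X => ?_
  have hb := (((adj.homEquiv X K).bijective.comp ((Iso.homToEquiv (Z := (TD φ).obj X) e).bijective)).comp
    (H4DR.Dualizing.bijective_epsCo φ I X))
  convert hb using 1
  funext x
  show x ≫ adj.homEquiv _ _ (H4DR.Dualizing.epsCo φ I ≫ e.hom) =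
    adj.homEquiv _ _ (((TD φ).map x ≫ H4DR.Dualizing.epsCo φ I) ≫ e.hom)
  rw [Category.assoc]
  exact (adj.homEquiv_naturality_left _ _).symm

lemma TD_map_epsCo {P : DRing.Cx A} {I : DRing.Cx R} (t : (reCx φ).obj P ⟶ I) :
    (TD φ).map (DerivedCategory.Q.map ((coAdj φ).homEquiv P I t)) ≫ H4DR.Dualizing.epsCo φ I =
      (DTen.resFactors φ).hom.app P ≫ DerivedCategory.Q.map t := by
  have h1 := (reF φ).mapDerivedCategoryFactors.hom.naturality ((coAdj φ).homEquiv P I t)
  simp only [Functor.comp_map] at h1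
  rw [H4DR.Dualizing.epsCo, Iso.app_hom]
  refine (reassoc_of% h1) _ |>.trans ?_
  rw [← Functor.map_comp, ← Adjunction.homEquiv_counit, Equiv.symm_apply_apply]

end RightAdj

variable {R A R' A' : Type u} [CommRing R] [CommRing A] [CommRing R'] [CommRing A']
  [Algebra R A] [Algebra R R'] [Algebra A A'] [Algebra R' A'] [Algebra R A'] [IsScalarTower R A A']
  [IsScalarTower R R' A'] [Algebra.IsPushout R A R' A']

variable (R A R' A') in
/-- `a ↦ a` from `A` to `A'`, linearly over `R`. -/
noncomputable def alphaLin : modA (algebraMap R A) ⟶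
    (ModuleCat.restrictScalars.{u} (algebraMap R R')).obj (modA (algebraMap R' A')) :=
  ModuleCat.ofHom (X := modA (algebraMap R A))
    (Y := (ModuleCat.restrictScalars.{u} (algebraMap R R')).obj (modA (algebraMap R' A')))
    { toFun := fun a => algebraMap A A' a
      map_add' := fun a b => map_add _ _ _
      map_smul' := fun r a => by
        show algebraMap A A' (algebraMap R A r * (show A from a)) =
          algebraMap R' A' (algebraMap R R' r) * algebraMap A A' a
        rw [map_mul, ← IsScalarTower.algebraMap_apply, ← IsScalarTower.algebraMap_apply] }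

variable (R A R' A') in
/-- `R' ⊗_R A ≅ A'`. -/
noncomputable def kappa : (ModuleCat.extendScalars.{u, u, u} (algebraMap R R')).obj (modA (algebraMap R A)) ⟶
    modA (algebraMap R' A') :=
  ((adjM (algebraMap R R')).homEquiv _ _).symm (alphaLin R A R' A')

instance isIso_kappa : IsIso (kappa R A R' A') := by
  haveI hp : Algebra.IsPushout R R' A A' := Algebra.IsPushout.symm inferInstance
  let b := hp.out.equiv
  let e : A ≃ₗ[R] modA (algebraMap R A) :=
    { toFun := fun x => x, invFun := fun x => x, map_add' := fun _ _ => rfl,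
      map_smul' := fun r x => Algebra.smul_def r x, left_inv := fun _ => rfl, right_inv := fun _ => rfl }
  let E₁ := H26Tor.extendEquiv (A' := R') (modA (algebraMap R A))
  have key : ∀ z, (kappa R A R' A').hom (E₁ z) = b (e.symm.toLinearMap.lTensor R' z) := fun z => by
    induction z using TensorProduct.induction_on with
    | zero => simp only [map_zero]
    | tmul r x =>
      rw [LinearMap.lTensor_tmul, IsBaseChange.equiv_tmul]
      show algebraMap R' A' r * algebraMap A A' x = r • algebraMap A A' x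
      rw [Algebra.smul_def]
    | add x y hx hy => simp only [map_add, hx, hy]
  refine (ConcreteCategory.isIso_iff_bijective _).2 ((Function.Bijective.of_comp_iff _ E₁.bijective).1 ?_)
  show Function.Bijective (fun z => (kappa R A R' A').hom (E₁ z))
  rw [funext key]
  exact b.bijective.comp (LinearEquiv.lTensor R' e.symm).bijective

variable {E : DRing.Cx R} (π : E ⟶ sgl0 (modA (algebraMap R A)))

/-- The base change of a resolution of `A`. -/
noncomputable def piBC : (DTen.extCx (algebraMap R R')).obj E ⟶ sgl0 (modA (algebraMap R' A')) :=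
  (DTen.extCx (algebraMap R R')).map π ≫
    (HomologicalComplex.singleMapHomologicalComplex (ModuleCat.extendScalars.{u, u, u} (algebraMap R R'))
      (ComplexShape.up ℤ) 0).hom.app (modA (algebraMap R A)) ≫
    (CochainComplex.singleFunctor (ModuleCat.{u} R') 0).map (kappa R A R' A')

theorem π₀_piBC (e : E.X 0) :
    (π₀ (algebraMap R' A') (piBC (A' := A') π)).hom
        (((adjM (algebraMap R R')).unit.app (E.X 0)).hom e) =
      (show A' from algebraMap A A' ((π₀ (algebraMap R A) π).hom e)) := by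
  have h : π₀ (algebraMap R' A') (piBC (A' := A') π) =
      (ModuleCat.extendScalars.{u, u, u} (algebraMap R R')).map (π₀ (algebraMap R A) π) ≫ kappa R A R' A' := by
    simp [π₀, piBC, CochainComplex.singleFunctor, CochainComplex.singleFunctors,
      HomologicalComplex.singleMapHomologicalComplex_hom_app_self, HomologicalComplex.single_map_f_self]
  rw [h]
  show algebraMap R' A' (1 : R') * algebraMap A A' ((π₀ (algebraMap R A) π).hom e) = _
  rw [map_one, one_mul]

theorem quasiIso_piBC (htor : ∀ p : ℕ, 0 < p → Subsingleton (DRing.Tor R p A R'))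
    (hE : KFlat.IsKFlat (bi R) E) [QuasiIso π] : QuasiIso (piBC (R' := R') (A' := A') π) := by
  let ρ := algebraMap R R'
  let P : DRing.Cx A := sgl0 (ModuleCat.of A A)
  let i := (HomologicalComplex.singleMapHomologicalComplex (ModuleCat.restrictScalars.{u} (algebraMap R A))
    (ComplexShape.up ℤ) 0).app (ModuleCat.of A A)
  let ψ : E ⟶ (DTen.resCx (algebraMap R A)).obj P := π ≫ i.inv
  have hN : ∀ p : ℕ, 0 < p → Subsingleton (DRing.Tor R p A
      ((ModuleCat.restrictScalars.{u} ρ).obj (ModuleCat.of R' R'))) := fun p hp => by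
    haveI := htor p hp
    let e : ModuleCat.of R R' ≅ (ModuleCat.restrictScalars.{u} ρ).obj (ModuleCat.of R' R') :=
      (LinearEquiv.toModuleIso (X₁ := ModuleCat.of R R')
        (X₂ := (ModuleCat.restrictScalars.{u} ρ).obj (ModuleCat.of R' R'))
        { toFun := fun x => x, invFun := fun x => x, map_add' := fun _ _ => rfl,
          map_smul' := fun a x => Algebra.smul_def a x, left_inv := fun _ => rfl, right_inv := fun _ => rfl })
    exact (((Tor (ModuleCat.{u} R) p).obj (ModuleCat.of R A)).mapIso e).toLinearEquiv.symm.injective.subsingleton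
  haveI := H4DR.BC.quasiIso_ext_of_tor (A := A) ρ hN P H25DTen.isKFlat_tensorUnit E hE ψ
  haveI : QuasiIso ((DTen.extCx ρ).map π) := by
    have h : (DTen.extCx ρ).map π = (DTen.extCx ρ).map ψ ≫ (DTen.extCx ρ).map i.hom := by
      rw [← Functor.map_comp, show ψ ≫ i.hom = π by simp [ψ]]
    rw [h]
    infer_instance
  unfold piBC
  infer_instance

end Groth.Agent.LeadBrown.TrivBC

namespace Groth.Agent.LeadBrown.TrivBC

variable {R A R' A' : Type u} [CommRing R] [CommRing A] [CommRing R'] [CommRing A']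
  [Algebra R A] [Algebra R R'] [Algebra A A'] [Algebra R' A'] [Algebra R A'] [IsScalarTower R A A']
  [IsScalarTower R R' A'] [Algebra.IsPushout R A R' A']
  (h : (algebraMap A A').comp (algebraMap R A) = (algebraMap R' A').comp (algebraMap R R'))

/-- The adjoint of the base change of `xi` is `xi` of the adjoint. -/
theorem homEquiv_xi_piBC {E : DRing.Cx R} (π : E ⟶ sgl0 (modA (algebraMap R A))) {P : DRing.Cx A}
    {J : DRing.Cx R'}
    (s : (DTen.resCx (algebraMap R' A')).obj ((DTen.extCx (algebraMap A A')).obj P) ⟶ J) :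
    (H25DTen.adjCx (algebraMap R R')).homEquiv _ _
        (H4DR.BC.γ h P ≫ xi (algebraMap R' A') (piBC (A' := A') π) s) ≫ (resHom (algebraMap R R') E J).hom =
      xi (algebraMap R A) π ((DTen.resCx (algebraMap R A)).map ((DTen.unitCx (algebraMap A A')).app P) ≫
        (H4DR.BC.cIso h).hom.app ((DTen.extCx (algebraMap A A')).obj P) ≫
        (DTen.resCx (algebraMap R R')).map s) := by
  refine HomologicalComplex.hom_ext _ _ fun n => ModuleCat.hom_ext (LinearMap.ext fun x => ?_)
  refine Cochain.ext _ _ fun p q hpq => ?_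
  let ρ := algebraMap R R'
  let x' : ((DTen.extCx (algebraMap A A')).obj P).X n :=
    ((adjM (algebraMap A A')).unit.app (P.X n)).hom x
  have hL : (show Cochain E ((DTen.resCx ρ).obj J) n from
      ((((H25DTen.adjCx ρ).homEquiv _ _ (H4DR.BC.γ h P ≫ xi (algebraMap R' A') (piBC (A' := A') π) s)) ≫
        (resHom ρ E J).hom).f n).hom x).v p q hpq =
      (adjM ρ).homEquiv _ _ ((show Cochain ((DTen.extCx ρ).obj E) J n from
        ((xi (algebraMap R' A') (piBC (A' := A') π) s).f n).hom
          (((H4DR.BC.γ h P).f n).hom (((adjM ρ).unit.app _).hom x))).v p q hpq) := rfl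
  refine hL.trans ?_
  by_cases hp : p = 0
  · subst hp
    obtain rfl : q = n := by omega
    refine ModuleCat.hom_ext (LinearMap.ext fun e => ?_)
    rw [Adjunction.homEquiv_unit]
    refine (xi_v₀ (algebraMap R' A') (piBC (A' := A') π) s _ _ _).trans ?_
    refine Eq.trans ?_ (xi_v₀ (algebraMap R A) π ((DTen.resCx (algebraMap R A)).map
        ((DTen.unitCx (algebraMap A A')).app P) ≫
      (H4DR.BC.cIso h).hom.app ((DTen.extCx (algebraMap A A')).obj P) ≫
      (DTen.resCx (algebraMap R R')).map s) q x e).symm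
    show (s.f _).hom _ = (s.f _).hom
      (((adjM (algebraMap A A')).unit.app (P.X _)).hom
        ((show A from (π₀ (algebraMap R A) π).hom e) • (show P.X _ from x)))
    refine congrArg (s.f _).hom ?_
    rw [map_smul]
    refine congrArg₂ (fun (c : A') (y : ((DTen.extCx (algebraMap A A')).obj P).X _) => c • y)
      (π₀_piBC π e) ?_
    letI : Module R (P.X q) := Module.compHom _ (algebraMap R A)
    refine (H4DR.BC.γ_f_tmul h P q 1 x).trans ?_
    rw [map_one, one_mul]
    rfl
  · rw [xi_v_ne (algebraMap R' A') (piBC (A' := A') π) s n _ p q hpq hp,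
      show (show Cochain E ((DTen.resCx ρ).obj J) n from ((xi (algebraMap R A) π _).f n).hom x).v p q hpq = 0
        from xi_v_ne (algebraMap R A) π _ n x p q hpq hp]
    exact ((adjM ρ).homEquiv_unit _ _ _).trans ((congrArg _ (Functor.map_zero _ _ _)).trans comp_zero)

variable [DRing.HasLBaseChange (algebraMap R R')] [DRing.HasLBaseChange (algebraMap A A')]
  (adjρ : DRing.LBaseChange (algebraMap R R') ⊣ DRing.restrictD (algebraMap R R'))
  (adjα : DRing.LBaseChange (algebraMap A A') ⊣ DRing.restrictD (algebraMap A A'))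

lemma cmp_naturality {K K' : Dual.D A} (f : K ⟶ K') :
    (DRing.LBaseChange (algebraMap R R')).map ((DRing.restrictD (algebraMap R A)).map f) ≫
        TrivBC.cmp adjρ adjα h K' =
      TrivBC.cmp adjρ adjα h K ≫
        (DRing.restrictD (algebraMap R' A')).map ((DRing.LBaseChange (algebraMap A A')).map f) := by
  rw [TrivBC.cmp, TrivBC.cmp, ← adjρ.homEquiv_naturality_left_symm, ← adjρ.homEquiv_naturality_right_symm]
  refine congrArg _ ?_
  have h1 := adjα.unit.naturality f
  have h2 := (TrivBC.resComm h).hom.naturality ((DRing.LBaseChange (algebraMap A A')).map f)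
  rw [← Category.assoc, ← Functor.map_comp]
  erw [h1]
  rw [Functor.map_comp, Category.assoc, Category.assoc]
  exact congrArg (_ ≫ ·) h2

variable {Rφ : Dual.D R ⥤ Dual.D A} (adj : DRing.restrictD (algebraMap R A) ⊣ Rφ)
  {Rφ' : Dual.D R' ⥤ Dual.D A'} (adj' : DRing.restrictD (algebraMap R' A') ⊣ Rφ')

/-- The base change map is an isomorphism at a free module of rank one in a single degree. -/
theorem isIso_bcMap_single (htor : ∀ p : ℕ, 0 < p → Subsingleton (DRing.Tor R p A R'))
    {E : DRing.Cx R} {a b : ℤ} (hEv : DRing.VanishesOutside E a b) (hEF : DRing.TermwiseFiniteProjective E)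
    (π : E ⟶ sgl0 (modA (algebraMap R A))) [QuasiIso π]
    (L : DRing.Cx R) (q₀ : ℤ) (hL : ∀ q, q ≠ q₀ → IsZero (L.X q)) (eR : L.X q₀ ≃ₗ[R] R)
    (hc : IsIso (TrivBC.cmp adjρ adjα h (Rφ.obj (DRing.toD L)))) :
    IsIso (TrivBC.bcMap adjρ adjα h adj adj' (DRing.toD L) hc) := by
  let φ := algebraMap R A
  let ρ := algebraMap R R'
  let α := algebraMap A A'
  let φ' := algebraMap R' A'
  -- resolutions
  obtain ⟨N, jN, hN⟩ := KInjRes.exists_resolution_functor (A := ModuleCat.{u} R)
  haveI : CochainComplex.IsKInjective (N.obj L) := (hN L).2.2.1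
  haveI : QuasiIso (jN.app L) := (hN L).2.1
  let I := N.obj L
  let i : L ⟶ I := jN.app L
  haveI : CochainComplex.IsKInjective I := (hN L).2.2.1
  haveI : QuasiIso i := (hN L).2.1
  obtain ⟨N', jN', hN'⟩ := KInjRes.exists_resolution_functor (A := ModuleCat.{u} R')
  let L' := (DTen.extCx ρ).obj L
  let I' := N'.obj L'
  let i' : L' ⟶ I' := jN'.app L'
  haveI : CochainComplex.IsKInjective I' := (hN' L').2.2.1
  haveI : QuasiIso i' := (hN' L').2.1
  haveI := H25DTen.isIso_Q_map i inferInstance
  haveI := H25DTen.isIso_Q_map i' inferInstance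
  have hLp := isProjRep_single hL eR
  have hEp : H4DR.TorAmp.IsProjRep E b := ⟨fun k hk => hEv k (Or.inr hk), fun k => (hEF k).2⟩
  haveI := hEp.isKProjective
  let H := (DRing.homCxFunctor E).obj L
  have hH := isProjRep_homCx hEv hEF hL eR
  haveI : CochainComplex.IsKProjective H := hH.isKProjective
  -- `RHom(A, L)` and a resolution of it
  let C := (coCx φ).obj I
  let eI : DRing.toD I ≅ DRing.toD L := (asIso (DerivedCategory.Q.map i)).symm
  let w : DRing.toD C ⟶ Rφ.obj (DRing.toD L) := adj.homEquiv _ _ (H4DR.Dualizing.epsCo φ I ≫ eI.hom)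
  haveI : IsIso w := isIso_homEquiv_epsCo adj I eI
  haveI : QuasiIso ((DRing.homCxFunctor E).map i) := H4DR.RHom.quasiIso_homCxMap_of_kproj E i
  haveI := quasiIso_theta φ π I
  have hC : ∀ n, q₀ - a < n → Subsingleton (Dual.HD A (DRing.toD C) n) := fun n hn => by
    rw [H4DR.TorAmp.subsingleton_HD_toD_iff, ← H4DR.TorAmp.exactAt_restrict_iff φ]
    exact (exactAt_iff_of_quasiIsoAt (theta φ π I) n).2
      ((exactAt_iff_of_quasiIsoAt ((DRing.homCxFunctor E).map i) n).1
        (HomologicalComplex.ExactAt.of_isZero (hH.above n hn)))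
  obtain ⟨P, hP, ⟨eP₀⟩⟩ := H4DR.TorAmp.exists_projRep hC
  obtain ⟨τ, hτ, -⟩ := H4DR.TorAmp.exists_qis hP eP₀
  haveI := hτ
  haveI := H25DTen.isIso_Q_map τ inferInstance
  haveI := hP.isKProjective
  have hPf : KFlat.IsKFlat (bi A) P := H4DR.TorAmp.isKFlat_of_flat hP.above hP.flat
  let t₀ : (reCx φ).obj P ⟶ I := ((coAdj φ).homEquiv P I).symm τ
  let eP : DRing.toD P ⟶ Rφ.obj (DRing.toD L) := DerivedCategory.Q.map τ ≫ w
  let β : (DRing.restrictD φ).obj (DRing.toD P) ⟶ DRing.toD L :=
    (DTen.resFactors φ).hom.app P ≫ DerivedCategory.Q.map t₀ ≫ eI.hom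
  have hβ : (DRing.restrictD φ).map eP ≫ adj.counit.app (DRing.toD L) = β := by
    refine (adj.homEquiv_counit (g := eP)).symm.trans ?_
    apply (adj.homEquiv _ _).injective
    rw [Equiv.apply_symm_apply]
    show DerivedCategory.Q.map τ ≫ adj.homEquiv _ _ (H4DR.Dualizing.epsCo φ I ≫ eI.hom) = adj.homEquiv _ _ β
    rw [← adj.homEquiv_naturality_left]
    refine congrArg _ ?_
    have ht := TD_map_epsCo (φ := φ) t₀
    rw [show (coAdj φ).homEquiv P I t₀ = τ from Equiv.apply_symm_apply _ τ] at ht
    exact ((reassoc_of% ht) eI.hom).trans rfl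
  -- `H` computes `RHom(A, L)`
  haveI hΞ : QuasiIso (xi φ π t₀) := by
    rw [quasiIso_xi_iff, Equiv.apply_symm_apply]
    exact hτ
  haveI := H25DTen.isIso_Q_map (xi φ π t₀) inferInstance
  obtain ⟨q, hq⟩ := ProjLift.Q_map_surjective H ((reCx φ).obj P)
    (DerivedCategory.Q.map ((DRing.homCxFunctor E).map i) ≫ inv (DerivedCategory.Q.map (xi φ π t₀)))
  haveI := H25DTen.isIso_Q_map ((DRing.homCxFunctor E).map i) inferInstance
  haveI : QuasiIso q := (DerivedCategory.isIso_Q_map_iff_quasiIso (φ := q)).1 (hq ▸ inferInstance)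
  -- the other side
  let P' := (DTen.extCx α).obj P
  obtain ⟨eα, hα⟩ := H4DR.BC.exists_iso_unit α adjα P hPf
  obtain ⟨eρ, hρ⟩ := H4DR.BC.exists_iso_unit ρ adjρ L (H4DR.TorAmp.isKFlat_of_flat hLp.above hLp.flat)
  haveI := H4DR.BC.isIso_cmp h adjρ adjα htor (DerivedCategory.Q.obj P)
  let c := TrivBC.cmp adjρ adjα h (DerivedCategory.Q.obj P)
  let σ : (DRing.restrictD φ').obj (DerivedCategory.Q.obj P') ⟶ DerivedCategory.Q.obj I' :=
    (DRing.restrictD φ').map eα.inv ≫ inv c ≫ (DRing.LBaseChange ρ).map β ≫ eρ.hom ≫ DerivedCategory.Q.map i'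
  obtain ⟨s₀, hs₀⟩ := H16Derived.InjDim.exists_chain_map I' ((DTen.resCx φ').obj P')
    ((DTen.resFactors φ').inv.app P' ≫ σ)
  let G := (DRing.LBaseChange α).map eP
  have hσ : eα.inv ≫ G ≫ TrivBC.bcMap adjρ adjα h adj adj' (DRing.toD L) hc ≫
      Rφ'.map (eρ.hom ≫ DerivedCategory.Q.map i') = adj'.homEquiv _ _ σ := by
    have hn := cmp_naturality h adjρ adjα eP
    haveI := hc
    rw [TrivBC.bcMap, ← adj'.homEquiv_naturality_right, ← adj'.homEquiv_naturality_left,
      ← adj'.homEquiv_naturality_left]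
    refine congrArg _ (congrArg ((DRing.restrictD φ').map eα.inv ≫ ·) ?_)
    rw [IsIso.eq_inv_comp, ← reassoc_of% hn]
    simp only [Category.assoc]
    rw [IsIso.hom_inv_id_assoc, ← Functor.map_comp_assoc, hβ]
  let eI' : DRing.toD I' ≅ DerivedCategory.Q.obj I' := Iso.refl _
  haveI := isIso_homEquiv_epsCo adj' I' eI'
  have hσ' : DerivedCategory.Q.map ((coAdj φ').homEquiv P' I' s₀) ≫
      adj'.homEquiv _ _ (H4DR.Dualizing.epsCo φ' I' ≫ eI'.hom) = adj'.homEquiv _ _ σ := by
    rw [← adj'.homEquiv_naturality_left]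
    refine congrArg _ ?_
    have ht := TD_map_epsCo (φ := φ') s₀
    refine ((reassoc_of% ht) eI'.hom).trans ?_
    rw [hs₀]
    simp [eI']
  suffices hs : QuasiIso ((coAdj φ').homEquiv P' I' s₀) by
    haveI := hs
    haveI := H25DTen.isIso_Q_map ((coAdj φ').homEquiv P' I' s₀) inferInstance
    haveI : IsIso (adj'.homEquiv _ _ σ) := hσ' ▸ inferInstance
    haveI : IsIso (eα.inv ≫ G ≫ TrivBC.bcMap adjρ adjα h adj adj' (DRing.toD L) hc ≫
      Rφ'.map (eρ.hom ≫ DerivedCategory.Q.map i')) := hσ ▸ inferInstance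
    haveI := IsIso.of_isIso_comp_left eα.inv (G ≫ TrivBC.bcMap adjρ adjα h adj adj' (DRing.toD L) hc ≫
      Rφ'.map (eρ.hom ≫ DerivedCategory.Q.map i'))
    haveI := IsIso.of_isIso_comp_left G (TrivBC.bcMap adjρ adjα h adj adj' (DRing.toD L) hc ≫
      Rφ'.map (eρ.hom ≫ DerivedCategory.Q.map i'))
    exact IsIso.of_isIso_comp_right _ (Rφ'.map (eρ.hom ≫ DerivedCategory.Q.map i'))
  -- the key identity
  let sb : (DTen.resCx φ).obj P ⟶ (DTen.resCx ρ).obj I' :=
    (DTen.resCx φ).map ((DTen.unitCx α).app P) ≫ (H4DR.BC.cIso h).hom.app P' ≫ (DTen.resCx ρ).map s₀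
  let v₀ : L ⟶ (DTen.resCx ρ).obj I' := (DTen.unitCx ρ).app L ≫ (DTen.resCx ρ).map i'
  have hsb : DerivedCategory.Q.map sb =
      DerivedCategory.Q.map t₀ ≫ inv (DerivedCategory.Q.map i) ≫ DerivedCategory.Q.map v₀ := by
    have e0 : c ≫ (DRing.restrictD φ').map eα.hom ≫ σ =
        (DRing.LBaseChange ρ).map β ≫ eρ.hom ≫ DerivedCategory.Q.map i' := by
      simp only [σ, ← Functor.map_comp_assoc, Iso.hom_inv_id, CategoryTheory.Functor.map_id, Category.id_comp,
        IsIso.hom_inv_id_assoc]
    have hσr : σ = (DTen.resFactors φ').hom.app P' ≫ DerivedCategory.Q.map s₀ := by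
      rw [hs₀, Iso.hom_inv_id_app_assoc]
    have e1 := congrArg (adjρ.homEquiv _ _) e0
    rw [adjρ.homEquiv_naturality_right, adjρ.homEquiv_naturality_left] at e1
    dsimp only [c, TrivBC.cmp] at e1
    rw [Equiv.apply_symm_apply, adjρ.homEquiv_unit] at e1
    simp only [Functor.map_comp, Category.assoc] at e1
    rw [reassoc_of% hρ] at e1
    have hn := (TrivBC.resComm h).hom.naturality eα.hom
    erw [← reassoc_of% hn] at e1
    rw [H4DR.BC.resComm_app, hσr] at e1
    simp only [Category.assoc, Functor.comp_map, Functor.map_comp] at e1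
    erw [← (DRing.restrictD (algebraMap R R')).map_comp_assoc, Iso.inv_hom_id_app] at e1
    rw [← cancel_epi ((DTen.resFactors φ).hom.app P), ← cancel_mono ((DTen.resFactors ρ).inv.app I')]
    refine Eq.trans ?_ (e1.trans ?_)
    · have n1 := (DTen.resFactors φ).hom.naturality ((DTen.unitCx α).app P)
      simp only [Functor.comp_map] at n1
      have n2 := (DTen.resFactors ρ).inv.naturality s₀
      simp only [Functor.comp_map] at n2
      rw [← Functor.map_comp_assoc, ← Functor.map_comp_assoc, hα]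
      simp only [sb, Functor.map_comp, Category.assoc]
      have hα' : (DRing.restrictD φ).map ((DTen.resFactors α).inv.app ((DTen.extCx α).obj P)) ≫
          (DRing.restrictD φ).map ((DTen.resFactors α).hom.app ((DTen.extCx α).obj P)) = 𝟙 _ := by
        rw [← Functor.map_comp, Iso.inv_hom_id_app, CategoryTheory.Functor.map_id]
      erw [reassoc_of% hα', CategoryTheory.Functor.map_id, Category.id_comp, reassoc_of% n1, n2]
    · have n2 := (DTen.resFactors ρ).inv.naturality i'
      simp only [Functor.comp_map] at n2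
      simp only [β, eI, v₀, Functor.map_comp, Category.assoc, Iso.symm_hom, asIso_inv]
      erw [n2]
  -- compare in `D(R)`
  have hinv : (HomologicalComplex.quasiIso (ModuleCat.{u} R) (ComplexShape.up ℤ)).IsInvertedBy
      (DRing.homCxQ E) := fun X Y f (hf : QuasiIso f) =>
    haveI := hf
    haveI := H4DR.RHom.quasiIso_homCxMap_of_kproj E f
    H25DTen.isIso_Q_map _ inferInstance
  let F : Dual.D R ⥤ Dual.D R := Localization.lift (DRing.homCxQ E) hinv DerivedCategory.Q
  let κ : DerivedCategory.Q ⋙ F ≅ DRing.homCxQ E := Localization.fac (DRing.homCxQ E) hinv DerivedCategory.Q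
  have hκ : ∀ {X Y : DRing.Cx R} (f : X ⟶ Y), DerivedCategory.Q.map ((DRing.homCxFunctor E).map f) =
      κ.inv.app X ≫ F.map (DerivedCategory.Q.map f) ≫ κ.hom.app Y := fun {X Y} f => by
    have := κ.hom.naturality f
    simp only [Functor.comp_map] at this
    rw [this, Iso.inv_hom_id_app_assoc]
  have hD : DerivedCategory.Q.map (q ≫ xi φ π sb) = DerivedCategory.Q.map ((DRing.homCxFunctor E).map v₀) := by
    have hst : DerivedCategory.Q.map ((DRing.homCxFunctor E).map sb) =
        DerivedCategory.Q.map ((DRing.homCxFunctor E).map t₀) ≫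
          inv (DerivedCategory.Q.map ((DRing.homCxFunctor E).map i)) ≫
            DerivedCategory.Q.map ((DRing.homCxFunctor E).map v₀) := by
      have hi : inv (DerivedCategory.Q.map ((DRing.homCxFunctor E).map i)) =
          κ.inv.app I ≫ F.map (inv (DerivedCategory.Q.map i)) ≫ κ.hom.app L := by
        refine IsIso.inv_eq_of_hom_inv_id ?_
        simp only [hκ, Category.assoc, Iso.hom_inv_id_app_assoc]
        rw [← Functor.map_comp_assoc, IsIso.hom_inv_id, CategoryTheory.Functor.map_id]
        exact (congrArg (κ.inv.app L ≫ ·) (Category.id_comp _)).trans (κ.inv_hom_id_app L)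
      rw [hi, hκ sb, hκ t₀, hκ v₀, hsb, Functor.map_comp, Functor.map_comp]
      simp only [Category.assoc, Iso.hom_inv_id_app_assoc]
    rw [Functor.map_comp, show xi φ π sb = xi φ π (𝟙 _) ≫ (DRing.homCxFunctor E).map sb by
        rw [← xi_comp, Category.id_comp],
      Functor.map_comp, hst, ← Functor.map_comp_assoc, ← Category.assoc, ← Functor.map_comp,
      Category.assoc, ← xi_comp φ π (𝟙 _) t₀, Category.id_comp, Functor.map_comp, hq]
    exact (congrArg (· ≫ _) ((Category.assoc _ _ _).trans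
      ((congrArg (_ ≫ ·) (IsIso.inv_hom_id (DerivedCategory.Q.map (xi φ π t₀)))).trans (Category.comp_id _)))).trans
      (IsIso.hom_inv_id_assoc (DerivedCategory.Q.map ((DRing.homCxFunctor E).map i)) _)
  obtain ⟨hh⟩ := ProjLift.homotopic_of_Q_map H _ _ _ hD
  -- back over `R'`
  let E' := (DTen.extCx ρ).obj E
  let π' := piBC (R' := R') (A' := A') π
  haveI : QuasiIso π' := quasiIso_piBC π htor (H4DR.TorAmp.isKFlat_of_flat hEp.above hEp.flat)
  haveI : CochainComplex.IsKProjective E' :=
    (show H4DR.TorAmp.IsProjRep E' b from ⟨fun k hk => (ModuleCat.extendScalars.{u, u, u} ρ).map_isZero (hEp.above k hk),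
      fun k => by
        haveI := (hEF k).2
        exact Module.Projective.of_equiv (H26Tor.extendEquiv (E.X k))⟩).isKProjective
  rw [← quasiIso_xi_iff φ' π']
  have hiso := isIso_canHom (R' := R') E L hEF q₀ hL
  haveI := hiso
  haveI : QuasiIso ((DRing.homCxFunctor E').map i') := H4DR.RHom.quasiIso_homCxMap_of_kproj E' i'
  let C₂ := canHom ρ E L ≫ (DRing.homCxFunctor E').map i'
  haveI : QuasiIso C₂ := quasiIso_comp _ _
  let C₁ := (DTen.extCx ρ).map q ≫ H4DR.BC.γ h P ≫ xi φ' π' s₀
  have hC₁ : C₁ = ((H25DTen.adjCx ρ).homEquiv _ _).symm ((q ≫ xi φ π sb) ≫ (resHom ρ E I').inv) := by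
    rw [← homEquiv_xi_piBC h π s₀, Category.assoc, Category.assoc, Iso.hom_inv_id, Category.comp_id,
      Adjunction.homEquiv_naturality_left_symm, Equiv.symm_apply_apply]
  have hC₂ : C₂ = ((H25DTen.adjCx ρ).homEquiv _ _).symm
      ((DRing.homCxFunctor E).map v₀ ≫ (resHom ρ E I').inv) := by
    rw [← homEquiv_canHom_comp, Equiv.symm_apply_apply]
  have hQ : DerivedCategory.Q.map C₁ = DerivedCategory.Q.map C₂ := by
    rw [hC₁, hC₂, Adjunction.homEquiv_counit, Adjunction.homEquiv_counit]
    exact DerivedCategory.Q_map_eq_of_homotopy (h := ((ModuleCat.extendScalars.{u, u, u} ρ).mapHomotopy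
      (hh.compRight _)).compRight _)
  haveI : QuasiIso C₁ := (DerivedCategory.isIso_Q_map_iff_quasiIso (φ := C₁)).1
    (hQ ▸ H25DTen.isIso_Q_map C₂ inferInstance)
  have hN2 : ∀ p : ℕ, 0 < p → Subsingleton (DRing.Tor R p A
      ((ModuleCat.restrictScalars.{u} ρ).obj (ModuleCat.of R' R'))) := fun p hp => by
    haveI := htor p hp
    let e : ModuleCat.of R R' ≅ (ModuleCat.restrictScalars.{u} ρ).obj (ModuleCat.of R' R') :=
      (LinearEquiv.toModuleIso (X₁ := ModuleCat.of R R')
        (X₂ := (ModuleCat.restrictScalars.{u} ρ).obj (ModuleCat.of R' R'))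
        { toFun := fun x => x, invFun := fun x => x, map_add' := fun _ _ => rfl,
          map_smul' := fun a x => Algebra.smul_def a x, left_inv := fun _ => rfl, right_inv := fun _ => rfl })
    exact (((Tor (ModuleCat.{u} R) p).obj (ModuleCat.of R A)).mapIso e).toLinearEquiv.symm.injective.subsingleton
  haveI := H4DR.BC.quasiIso_ext_of_tor (A := A) ρ hN2 P hPf H
    (H4DR.TorAmp.isKFlat_of_flat hH.above hH.flat) q
  haveI : QuasiIso (H4DR.BC.γ h P ≫ xi φ' π' s₀) := quasiIso_of_comp_left ((DTen.extCx ρ).map q) _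
  haveI := H4DR.BC.isIso_γ h P
  exact quasiIso_of_comp_left (H4DR.BC.γ h P) _

end Groth.Agent.LeadBrown.TrivBC
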